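import Cfsg.Agent.Lib.H17.SuzGlue
import Cfsg.Prelude.Def_KGroupFacts
import Cfsg.Agent.Lib.H28.StemPres

set_option autoImplicit false
set_option maxRecDepth 100000

/-!
# S2048, `M(Suz) = C₆`: shared definitions (helper14)

* `wv g w`: the value of a word (a list of letters `0, …, 6`) under an assignment `g : ℕ → Γ`;
* `HK g = ⟨g 0, …, g 5⟩`;
* `Setting7 exactL relL g A`: the hypotheses of the monomial certificate over `G₂(4)`;
* `sg`: the seven letters of `Suz`, `KS = ⟨a, …, f⟩`;
* `SL`: the derived subgroup of the preimage of a perfect subgroup in a central extension is a stem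
  extension of it (any universes).
-/

namespace Cfsg.Agent.Lib.H14.SuzM

open Cfsg.Agent.Lib.H17.SuzGlue (gen idx rels)

section

variable {Γ : Type*} [Group Γ] (g : ℕ → Γ)

/-- the value of a word -/
def wv (w : List ℕ) : Γ := (w.map g).prod

/-- the subgroup generated by the first six letters -/
def HK : Subgroup Γ := Subgroup.closure {g 0, g 1, g 2, g 3, g 4, g 5}

/-- the hypotheses of the certificate: seven involutions generating `Γ`, the words of `exactL` are
relators, the words of `relL` have values in the central subgroup `A`, which meets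
`⟨g 0, …, g 5⟩` trivially -/
structure Setting7 (exactL relL : List (List ℕ)) (A : Subgroup Γ) : Prop where
  central : A ≤ Subgroup.center Γ
  disj : ∀ x ∈ HK g, x ∈ A → x = 1
  invol : ∀ i < 7, g i * g i = 1
  exact : ∀ w ∈ exactL, wv g w = 1
  rel : ∀ w ∈ relL, wv g w ∈ A
  gen : Subgroup.closure {x : Γ | ∃ i < 7, x = g i} = ⊤

theorem wv_nil : wv g [] = 1 := rfl

theorem wv_cons (x : ℕ) (w : List ℕ) : wv g (x :: w) = g x * wv g w := by
  simp [wv]

theorem wv_append (u v : List ℕ) : wv g (u ++ v) = wv g u * wv g v := by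
  simp [wv]

theorem map_wv {Δ : Type*} [Group Δ] (f : Γ →* Δ) (w : List ℕ) :
    f (wv g w) = wv (fun x => f (g x)) w := by
  induction w with
  | nil => simp [wv]
  | cons x w ih => rw [wv_cons, wv_cons, map_mul, ih]

end

/-- the Suzuki group, as presented in the definitions -/
abbrev G : Type := Cfsg.Spor.Suz

/-- the seven letters of `Suz` -/
noncomputable def sg (x : ℕ) : G := PresentedGroup.of (gen x)

/-- the subgroup `⟨a, …, f⟩` of `Suz` -/
noncomputable def KS : Subgroup G := HK sg

namespace SL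

open scoped commutatorElement

variable {G : Type*} [Group G] {Γ : Type*} [Group Γ] (σ : Γ →* G) (U : Subgroup G)

/-- the derived subgroup of the preimage of `U` -/
def L : Subgroup Γ := ⁅U.comap σ, U.comap σ⁆

theorem comm_le_self (H : Subgroup Γ) : ⁅H, H⁆ ≤ H := by
  rw [Subgroup.commutator_le]
  intro g1 h1 g2 h2
  rw [commutatorElement_def]
  exact H.mul_mem (H.mul_mem (H.mul_mem h1 h2) (H.inv_mem h1)) (H.inv_mem h2)

theorem L_le : L σ U ≤ U.comap σ := comm_le_self _

/-- the restriction of `σ` to `L` -/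
def tau : ↥(L σ U) →* ↥U :=
  (σ.comp (L σ U).subtype).codRestrict U (fun x => L_le σ U x.2)

theorem tau_apply (x : ↥(L σ U)) : ((tau σ U x : ↥U) : G) = σ x.1 := rfl

variable (hs : Function.Surjective σ) (hc : σ.ker ≤ Subgroup.center Γ) (hperf : ⁅U, U⁆ = U)

include hs hperf in
theorem map_L : (L σ U).map σ = U := by
  unfold L
  rw [Subgroup.map_commutator, Subgroup.map_comap_eq_self_of_surjective hs, hperf]

include hc in
theorem central {z : Γ} (hz : z ∈ σ.ker) (x : Γ) : z * x = x * z :=
  (Subgroup.mem_center_iff.1 (hc hz) x).symm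

include hs hperf in
theorem exists_L_mul {x : Γ} (hx : x ∈ U.comap σ) : ∃ y ∈ L σ U, ∃ z ∈ σ.ker, x = y * z := by
  have h1 : σ x ∈ (L σ U).map σ := by
    rw [map_L σ U hs hperf]
    exact hx
  obtain ⟨y, hy, hyx⟩ := Subgroup.mem_map.1 h1
  refine ⟨y, hy, y⁻¹ * x, ?_, by group⟩
  rw [MonoidHom.mem_ker, map_mul, map_inv, hyx, inv_mul_cancel]

include hc in
theorem comm_central_mul {y1 y2 z1 z2 : Γ} (h1 : z1 ∈ σ.ker) (h2 : z2 ∈ σ.ker) :
    ⁅y1 * z1, y2 * z2⁆ = ⁅y1, y2⁆ := by
  have k1 : z1 ∈ Subgroup.center Γ := hc h1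
  have k2 : z2 ∈ Subgroup.center Γ := hc h2
  have e1 : y1 * z1 = z1 * y1 := Subgroup.mem_center_iff.1 k1 y1
  have e2 : y2 * z2 = z2 * y2 := Subgroup.mem_center_iff.1 k2 y2
  rw [e1, e2]
  exact Cfsg.Agent.Lib.H28.StemPres.commutatorElement_central_mul k1 k2

include hs hc hperf in
theorem L_perfect : ⁅L σ U, L σ U⁆ = L σ U := by
  apply le_antisymm (comm_le_self _)
  show ⁅U.comap σ, U.comap σ⁆ ≤ _
  rw [Subgroup.commutator_le]
  intro x1 h1 x2 h2
  obtain ⟨y1, hy1, z1, hz1, rfl⟩ := exists_L_mul σ U hs hperf h1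
  obtain ⟨y2, hy2, z2, hz2, rfl⟩ := exists_L_mul σ U hs hperf h2
  rw [comm_central_mul σ hc hz1 hz2]
  exact Subgroup.commutator_mem_commutator hy1 hy2

include hs hc hperf in
theorem commutator_L_eq_top : commutator ↥(L σ U) = ⊤ := by
  apply Subgroup.map_injective (Subgroup.subtype_injective (L σ U))
  rw [Subgroup.map_subtype_commutator, L_perfect σ U hs hc hperf, ← MonoidHom.range_eq_map,
    Subgroup.range_subtype]

include hs hc hperf in
/-- the derived subgroup of the preimage of a perfect subgroup is a stem extension of it -/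
theorem tau_stem : Cfsg.IsStemExtension (tau σ U) := by
  refine ⟨?_, ?_, ?_⟩
  · rintro ⟨g, hg⟩
    have h1 : g ∈ (L σ U).map σ := by rw [map_L σ U hs hperf]; exact hg
    obtain ⟨y, hy, hyg⟩ := Subgroup.mem_map.1 h1
    exact ⟨⟨y, hy⟩, Subtype.ext hyg⟩
  · intro x hx
    have h1 : σ x.1 = 1 := by
      have := MonoidHom.mem_ker.1 hx
      have h2 := congrArg Subtype.val this
      rw [tau_apply] at h2
      exact h2
    rw [Subgroup.mem_center_iff]
    intro y
    apply Subtype.ext
    show y.1 * x.1 = x.1 * y.1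
    exact (central σ hc (MonoidHom.mem_ker.2 h1) y.1).symm
  · rw [commutator_L_eq_top σ U hs hc hperf]
    exact le_top

/-- the kernel of `tau` is `σ.ker ⊓ L`, transported -/
theorem mem_ker_tau (x : ↥(L σ U)) : x ∈ (tau σ U).ker ↔ x.1 ∈ σ.ker := by
  rw [MonoidHom.mem_ker, MonoidHom.mem_ker]
  constructor
  · intro h
    have := congrArg Subtype.val h
    rwa [tau_apply] at this
  · intro h
    exact Subtype.ext h

end SL

end Cfsg.Agent.Lib.H14.SuzM
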