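import Cfsg.Agent.Lib.H14.SuzM.Base

set_option autoImplicit false
set_option maxRecDepth 100000

/-!
# S2048: the presented double cover of `Suz` (definitions only; helper14)

Lifts with `a, b, c, f, g` involutions and `d² = e² = z`; with `z = d²`: `a² = b² = c² = f² = 1`, `e² = z`,
`z` commutes with `a, b, c, e, f`, `z² = 1`, the braids `(ab)⁵`, `bcb = cbc`, `ded = ede`, `bfb = fbf`,
the commuting pairs `ac, ad, ae, af, bd, be, ce, cf, df, ef`, `a = (c d⁻¹ c d)²`,
`((b c d⁻¹ c d)⁵ e)³ = z`, `(a b c f)⁵ = z` (the 28 relators of `2.G₂(4)`), and `g² = 1`, `bgb = gbg`,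
`[a,g] = [c,g] = [d,g] = [e,g] = 1`, `[z,g] = 1`, `a = (fg)²`, `(bfg)⁵ = 1`
(signs determined by helper25's percolation on `Fin 32760 × ZMod 2` over `U₅(2)`).
-/

namespace Cfsg.Agent.Lib.H14.SuzM

open Cfsg.Agent.Lib.H17.SuzGlue (gen idx rels relW)

/-- the relators of the double cover, as words (`true` = letter, `false` = its inverse) -/
def covW2 : List (List (Cfsg.Spor.Suz.Gen × Bool)) := [
  [(.a, true), (.a, true)],
  [(.b, true), (.b, true)],
  [(.c, true), (.c, true)],
  [(.f, true), (.f, true)],
  [(.e, true), (.e, true), (.d, false), (.d, false)],
  [(.d, true), (.d, true), (.a, true), (.d, false), (.d, false), (.a, false)],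
  [(.d, true), (.d, true), (.b, true), (.d, false), (.d, false), (.b, false)],
  [(.d, true), (.d, true), (.c, true), (.d, false), (.d, false), (.c, false)],
  [(.d, true), (.d, true), (.e, true), (.d, false), (.d, false), (.e, false)],
  [(.d, true), (.d, true), (.f, true), (.d, false), (.d, false), (.f, false)],
  [(.d, true), (.d, true), (.d, true), (.d, true)],
  [(.a, true), (.b, true), (.a, true), (.b, true), (.a, true), (.b, false), (.a, false), (.b, false), (.a, false), (.b, false)],
  [(.b, true), (.c, true), (.b, true), (.c, false), (.b, false), (.c, false)],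
  [(.d, true), (.e, true), (.d, true), (.e, false), (.d, false), (.e, false)],
  [(.b, true), (.f, true), (.b, true), (.f, false), (.b, false), (.f, false)],
  [(.a, true), (.c, true), (.a, false), (.c, false)],
  [(.a, true), (.d, true), (.a, false), (.d, false)],
  [(.a, true), (.e, true), (.a, false), (.e, false)],
  [(.a, true), (.f, true), (.a, false), (.f, false)],
  [(.b, true), (.d, true), (.b, false), (.d, false)],
  [(.b, true), (.e, true), (.b, false), (.e, false)],
  [(.c, true), (.e, true), (.c, false), (.e, false)],
  [(.c, true), (.f, true), (.c, false), (.f, false)],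
  [(.d, true), (.f, true), (.d, false), (.f, false)],
  [(.e, true), (.f, true), (.e, false), (.f, false)],
  [(.a, true), (.d, false), (.c, false), (.d, true), (.c, false), (.d, false), (.c, false), (.d, true), (.c, false)],
  [(.b, true), (.c, true), (.d, false), (.c, true), (.d, true), (.b, true), (.c, true), (.d, false), (.c, true), (.d, true), (.b, true), (.c, true), (.d, false), (.c, true), (.d, true), (.b, true), (.c, true), (.d, false), (.c, true), (.d, true), (.b, true), (.c, true), (.d, false), (.c, true), (.d, true), (.e, true), (.b, true), (.c, true), (.d, false), (.c, true), (.d, true), (.b, true), (.c, true), (.d, false), (.c, true), (.d, true), (.b, true), (.c, true), (.d, false), (.c, true), (.d, true), (.b, true), (.c, true), (.d, false), (.c, true), (.d, true), (.b, true), (.c, true), (.d, false), (.c, true), (.d, true), (.e, true), (.b, true), (.c, true), (.d, false), (.c, true), (.d, true), (.b, true), (.c, true), (.d, false), (.c, true), (.d, true), (.b, true), (.c, true), (.d, false), (.c, true), (.d, true), (.b, true), (.c, true), (.d, false), (.c, true), (.d, true), (.b, true), (.c, true), (.d,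 false), (.c, true), (.d, true), (.e, true), (.d, false), (.d, false)],
  [(.a, true), (.b, true), (.c, true), (.f, true), (.a, true), (.b, true), (.c, true), (.f, true), (.a, true), (.b, true), (.c, true), (.f, true), (.a, true), (.b, true), (.c, true), (.f, true), (.a, true), (.b, true), (.c, true), (.f, true), (.d, false), (.d, false)],
  [(.g, true), (.g, true)],
  [(.b, true), (.g, true), (.b, true), (.g, false), (.b, false), (.g, false)],
  [(.a, true), (.g, true), (.a, false), (.g, false)],
  [(.c, true), (.g, true), (.c, false), (.g, false)],
  [(.d, true), (.g, true), (.d, false), (.g, false)],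
  [(.e, true), (.g, true), (.e, false), (.g, false)],
  [(.d, true), (.d, true), (.g, true), (.d, false), (.d, false), (.g, false)],
  [(.a, true), (.g, false), (.f, false), (.g, false), (.f, false)],
  [(.b, true), (.f, true), (.g, true), (.b, true), (.f, true), (.g, true), (.b, true), (.f, true), (.g, true), (.b, true), (.f, true), (.g, true), (.b, true), (.f, true), (.g, true)]]

/-- the relators of the double cover -/
def covRels2 : Set (FreeGroup Cfsg.Spor.Suz.Gen) := {r | ∃ L ∈ covW2, r = FreeGroup.mk L}

/-- the presented double cover -/
abbrev PC2 : Type := PresentedGroup covRels2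

/-- the letters of the double cover -/
noncomputable def pc2 (x : ℕ) : PC2 := PresentedGroup.of (gen x)

/-- the central element `z = d²` of the double cover -/
noncomputable def z2 : PC2 := pc2 3 * pc2 3

end Cfsg.Agent.Lib.H14.SuzM
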