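import Cfsg.Agent.Lib.H14.SuzM.Base

set_option autoImplicit false
set_option maxRecDepth 100000

/-!
# S2048: the presented triple cover of `Suz` (definitions only; helper14)

All seven lifted letters are involutions (involution lifts are unique when the kernel has odd order),
all relators of `Suz` stay exact except `(bfg)^5 =: ζ`, which becomes a central element of order 3.
-/

namespace Cfsg.Agent.Lib.H14.SuzM

open Cfsg.Agent.Lib.H17.SuzGlue (gen idx rels relW)

/-- the word `(bfg)^5` -/
def zw : List ℕ := [1, 5, 6, 1, 5, 6, 1, 5, 6, 1, 5, 6, 1, 5, 6]

/-- the relator words of the triple cover: the relator words of `Suz` except `(bfg)^5` (number 24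
in `relW`), the commutators of `(bfg)^5` with the seven letters, and its cube -/
def covW3 : List (List ℕ) :=
  relW.eraseIdx 24 ++ (List.range 7).map (fun x => zw ++ [x] ++ zw.reverse ++ [x]) ++
    [zw ++ zw ++ zw]

/-- the relators of the triple cover -/
def covRels3 : Set (FreeGroup Cfsg.Spor.Suz.Gen) :=
  {r | ∃ w ∈ covW3, r = FreeGroup.mk (w.map fun x => (gen x, true))}

/-- the presented triple cover -/
abbrev PC3 : Type := PresentedGroup covRels3

/-- the letters of the triple cover -/
noncomputable def pc3 (x : ℕ) : PC3 := PresentedGroup.of (gen x)

/-- the central element `ζ = (bfg)^5` of the triple cover -/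
noncomputable def z3 : PC3 := wv pc3 zw

end Cfsg.Agent.Lib.H14.SuzM
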