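import Cfsg.Agent.Lib.H7.SuzMCV
import Cfsg.Agent.Lib.H24.SuzMP2
import Cfsg.Agent.Lib.H17.SuzOrd.Order

set_option autoImplicit false

/-!
# S2048: a stem extension of `Suz` with kernel of even order, from `z2 ≠ 1` (helper14)

Assembly of helper7's cover lemma (CV) and helper24's presentation facts (P2) for helper25's presented
double cover; the input `z2 ≠ 1` is helper25's monomial model on `65520` points (M2).
-/

namespace Cfsg.Agent.Lib.H14.SuzM

open Cfsg.Agent.Lib.H25.SuzM2 (PC2 pc2 z2)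

/-- **LOWER, 2-part**: the presented double cover is a finite stem extension of `Suz` -/
theorem exists_stem2_of (h : z2 ≠ 1) : ∃ (Γ : Type) (_ : Group Γ) (_ : Finite Γ) (σ : Γ →* G),
    Cfsg.IsStemExtension σ ∧ 2 ∣ Nat.card σ.ker := by
  obtain ⟨hgen, hz, hz2, ⟨π, hπ, hπz⟩, hsq, hrel, hperf⟩ := Cfsg.Agent.Lib.H24.SuzM.cover2_facts
  obtain ⟨hfin, hstem, hdvd⟩ := Cfsg.Agent.Lib.H7.SuzM.stem_of_cover pc2 z2 2 Nat.prime_two
    hgen hz hz2 h π hπ hπz hsq hrel hperf Cfsg.Agent.Lib.H17.SuzOrd.finite_G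
  exact ⟨PC2, inferInstance, hfin, π, hstem, hdvd⟩

end Cfsg.Agent.Lib.H14.SuzM
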