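import Cfsg.Agent.Lib.H7.SuzMCV
import Cfsg.Agent.Lib.H9.SuzMP3
import Cfsg.Agent.Lib.H7.SuzMM3
import Cfsg.Agent.Lib.H17.SuzOrd.Order

set_option autoImplicit false

/-!
# S2048: a stem extension of `Suz` with kernel of order divisible by 3 (helper14)

Assembly of helper7's cover lemma (CV) and model (M3) and helper9's presentation facts (P3).
-/

namespace Cfsg.Agent.Lib.H14.SuzM

/-- **LOWER, 3-part**: the presented triple cover is a finite stem extension of `Suz` -/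
theorem exists_stem3 : ∃ (Γ : Type) (_ : Group Γ) (_ : Finite Γ) (σ : Γ →* G),
    Cfsg.IsStemExtension σ ∧ 3 ∣ Nat.card σ.ker := by
  obtain ⟨hgen, hz, hz3, ⟨π, hπ, hπz⟩, hsq, hrel, hperf⟩ := Cfsg.Agent.Lib.H9.SuzM.cover3_facts
  obtain ⟨hfin, hstem, hdvd⟩ := Cfsg.Agent.Lib.H7.SuzM.stem_of_cover pc3 z3 3 Nat.prime_three
    hgen hz hz3 Cfsg.Agent.Lib.H7.SuzM.z3_ne_one π hπ hπz hsq hrel hperf
    Cfsg.Agent.Lib.H17.SuzOrd.finite_G
  exact ⟨PC3, inferInstance, hfin, π, hstem, hdvd⟩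

end Cfsg.Agent.Lib.H14.SuzM
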