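import Cfsg.Agent.Lib.H25.SuzM2.Cov2

set_option autoImplicit false
set_option maxRecDepth 100000

/-!
# S2048, piece M2 (twin): a matrix model of `2.Suz` in `GL₁₂(𝔽₃)` shows `z2 ≠ 1` (helper14)

`2.Suz` acts on the complex Leech lattice modulo `θ = √-3`, a 12-dimensional space over `𝔽₃`.  The seven
matrices below (extracted from helper25's monomial permutation model on `65520` points: the points are
the minimal vectors modulo `θ`) satisfy the 40 relator words of the presented double cover `PC2`
(`Lib/H25/SuzM2/Cov2.lean`), and `z2 = d²` goes to `-1`.  Matrices are packed into natural numbers,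
two bits per entry, entry `(i, j)` at position `12 i + j`; the kernel multiplies 319 pairs of them.
-/

namespace Cfsg.Agent.Lib.H14.SuzM.M2

open Cfsg.Agent.Lib.H14.SuzM Cfsg.Agent.Lib.H25.SuzM2
open Cfsg.Agent.Lib.H17.SuzGlue (gen idx Gen)

/-- evaluate `n` before continuing with `k n` -/
def frc (n : ℕ) (k : ℕ → ℕ) : ℕ :=
  Nat.rec (motive := fun _ => ℕ) (k 0) (fun m _ => k (Nat.succ m)) n

theorem frc_eq (n : ℕ) (k : ℕ → ℕ) : frc n k = k n := by
  cases n <;> rfl

/-- the entry `(i, j)` of a packed matrix -/
def ent (a i j : ℕ) : ℕ := a / 4 ^ (12 * i + j) % 4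

/-- the entry `(i, j)` of the product, reduced modulo 3 -/
def dot (a b i j : ℕ) : ℕ :=
  (ent a i 0 * ent b 0 j + ent a i 1 * ent b 1 j + ent a i 2 * ent b 2 j + ent a i 3 * ent b 3 j + ent a i 4 * ent b 4 j + ent a i 5 * ent b 5 j + ent a i 6 * ent b 6 j + ent a i 7 * ent b 7 j + ent a i 8 * ent b 8 j + ent a i 9 * ent b 9 j + ent a i 10 * ent b 10 j + ent a i 11 * ent b 11 j) % 3

/-- the packed product -/
def mulN (a b : ℕ) : ℕ :=
  frc a fun a => frc b fun b =>
    Nat.ofDigits 4 ((List.range 144).map fun p => dot a b (p / 12) (p % 12))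

theorem ofDigits_div_pow_mod (L : List ℕ) (hL : ∀ d ∈ L, d < 4) (p : ℕ) :
    Nat.ofDigits 4 L / 4 ^ p % 4 = L.getD p 0 := by
  induction L generalizing p with
  | nil => simp
  | cons d L ih =>
    have hd : d < 4 := hL d (List.mem_cons_self)
    have hL' : ∀ d ∈ L, d < 4 := fun d hd => hL d (List.mem_cons_of_mem _ hd)
    rw [Nat.ofDigits_cons]
    cases p with
    | zero =>
      rw [pow_zero, Nat.div_one, List.getD_cons_zero]
      omega
    | succ p =>
      rw [pow_succ', ← Nat.div_div_eq_div_mul, List.getD_cons_succ, ← ih hL' p]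
      congr 2
      omega

theorem dot_lt (a b i j : ℕ) : dot a b i j < 4 := by
  unfold dot
  omega

theorem ent_mulN (a b i j : ℕ) (hi : i < 12) (hj : j < 12) :
    ent (mulN a b) i j = dot a b i j := by
  have h1 : mulN a b =
      Nat.ofDigits 4 ((List.range 144).map fun p => dot a b (p / 12) (p % 12)) := by
    unfold mulN
    rw [frc_eq, frc_eq]
  rw [h1]
  show Nat.ofDigits 4 _ / 4 ^ (12 * i + j) % 4 = _
  rw [ofDigits_div_pow_mod]
  · have h2 : 12 * i + j < 144 := by omega
    rw [List.getD_eq_getElem?_getD, List.getElem?_map, List.getElem?_range h2]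
    show dot a b ((12 * i + j) / 12) ((12 * i + j) % 12) = _
    have h3 : (12 * i + j) / 12 = i := by omega
    have h4 : (12 * i + j) % 12 = j := by omega
    rw [h3, h4]
  · intro d hd
    obtain ⟨p, -, rfl⟩ := List.mem_map.mp hd
    exact dot_lt _ _ _ _

/-- the matrix of a packed matrix -/
def toM (a : ℕ) : Matrix (Fin 12) (Fin 12) (ZMod 3) := fun i j => ((ent a i j : ℕ) : ZMod 3)

theorem toM_mulN (a b : ℕ) : toM (mulN a b) = toM a * toM b := by
  ext i j
  rw [Matrix.mul_apply]
  show ((ent (mulN a b) i j : ℕ) : ZMod 3) =
    ∑ k : Fin 12, ((ent a i k : ℕ) : ZMod 3) * ((ent b k j : ℕ) : ZMod 3)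
  rw [ent_mulN a b i j i.2 j.2,
    Fin.sum_univ_eq_sum_range (fun k => ((ent a i k : ℕ) : ZMod 3) * ((ent b k j : ℕ) : ZMod 3)) 12]
  unfold dot
  rw [ZMod.natCast_mod]
  simp only [Finset.sum_range_succ, Finset.range_zero, Finset.sum_empty, zero_add]
  push_cast
  rfl

/-- the identity matrix, packed -/
def idN : ℕ := 124330810955120115942890487352241580186909358611181877460889648518639718330954692952065

/-- the matrix of the letter `0`, packed -/
def a0 : ℕ := 248661621910240231885780974708109044823507410261239603988063989327833128330169252185605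

/-- the matrix of the letter `1`, packed -/
def a1 : ℕ := 248661618233841398600991770006484445241931122858239963658095332828528453134087771652100

/-- the matrix of the letter `2`, packed -/
def a2 : ℕ := 62165419372611636500787343957530328576895027484499199211519308820060305444020422837250

/-- the matrix of the letter `3`, packed -/
def a3 : ℕ := 15541351152280285433812743958472151673134863622711024436967985343955455900485389647968

/-- the matrix of the letter `4`, packed -/
def a4 : ℕ := 1942668894034980492265130273301739921729927998073287360937440117182017356265097789568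

/-- the matrix of the letter `5`, packed -/
def a5 : ℕ := 31082709686305376754307050719894016783110889341578475464978919636046937557578912104450

/-- the matrix of the letter `6`, packed -/
def a6 : ℕ := 77706763106960322176831749611422975384872599343579613459523563807767255703918368392450

/-- the inverse of the matrix of the letter `3`, packed -/
def a3i : ℕ := 7770675576140805284595158393142444941703384365768001369699142738419895657087685886096

/-- the inverse of the matrix of the letter `4`, packed -/
def a4i : ℕ := 3885337788069960984451276327852061953436413293994034865581567456921069333304288739392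

/-- the packed matrix of a generator -/
def genN : Gen → ℕ
  | .a => a0
  | .b => a1
  | .c => a2
  | .d => a3
  | .e => a4
  | .f => a5
  | .g => a6

/-- the packed inverse matrix of a generator -/
def invN : Gen → ℕ
  | .a => a0
  | .b => a1
  | .c => a2
  | .d => a3i
  | .e => a4i
  | .f => a5
  | .g => a6

/-- the packed matrix of a word -/
def wordN (w : List ℕ) : ℕ := w.foldl (fun acc x => mulN acc (genN (gen x))) idN

theorem toM_idN : toM idN = 1 := by
  have h : ∀ i j : Fin 12, ((ent idN i j : ℕ) : ZMod 3) = if i = j then 1 else 0 := by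
    decide +kernel
  ext i j
  rw [Matrix.one_apply]
  exact h i j

theorem gen_inv (u : Gen) : mulN (genN u) (invN u) = idN ∧ mulN (invN u) (genN u) = idN := by
  cases u <;> decide +kernel

theorem toM_foldl (w : List ℕ) (a : ℕ) :
    toM (w.foldl (fun acc x => mulN acc (genN (gen x))) a) =
      toM a * (w.map fun x => toM (genN (gen x))).prod := by
  induction w generalizing a with
  | nil => simp
  | cons x w ih =>
    rw [List.foldl_cons, ih, toM_mulN, List.map_cons, List.prod_cons, mul_assoc]

theorem toM_wordN (w : List ℕ) : toM (wordN w) = (w.map fun x => toM (genN (gen x))).prod := by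
  unfold wordN
  rw [toM_foldl, toM_idN, one_mul]

theorem cov2_ok : ∀ w ∈ covW2, wordN w = idN := by
  decide +kernel

/-- the invertible matrix of a generator -/
def U (u : Gen) : (Matrix (Fin 12) (Fin 12) (ZMod 3))ˣ where
  val := toM (genN u)
  inv := toM (invN u)
  val_inv := by rw [← toM_mulN, (gen_inv u).1, toM_idN]
  inv_val := by rw [← toM_mulN, (gen_inv u).2, toM_idN]

theorem lift_mk_pos' {K : Type*} [Group K] (f : Gen → K) (w : List ℕ) :
    FreeGroup.lift f (FreeGroup.mk (w.map fun x => (gen x, true))) =
      (w.map fun x => f (gen x)).prod := by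
  rw [FreeGroup.lift_mk, List.map_map]
  rfl

theorem val_prod (w : List ℕ) :
    ((w.map fun x => U (gen x)).prod : (Matrix (Fin 12) (Fin 12) (ZMod 3))ˣ).val =
      (w.map fun x => toM (genN (gen x))).prod := by
  induction w with
  | nil => simp
  | cons x w ih => rw [List.map_cons, List.prod_cons, Units.val_mul, ih, List.map_cons, List.prod_cons]; rfl

theorem U_rels : ∀ r ∈ covRels2, FreeGroup.lift U r = 1 := by
  rintro r ⟨w, hw, rfl⟩
  rw [lift_mk_pos']
  apply Units.ext
  rw [val_prod, ← toM_wordN, cov2_ok w hw, toM_idN, Units.val_one]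

/-- the matrix representation of the double cover -/
noncomputable def φ2 : PC2 →* (Matrix (Fin 12) (Fin 12) (ZMod 3))ˣ :=
  PresentedGroup.toGroup (f := U) U_rels

theorem φ2_pc2 (x : ℕ) : φ2 (pc2 x) = U (gen x) := by
  unfold φ2 pc2
  rw [PresentedGroup.toGroup.of]

theorem φ2_wv (w : List ℕ) : φ2 (wv pc2 w) = (w.map fun x => U (gen x)).prod := by
  induction w with
  | nil => rw [wv_nil, map_one]; rfl
  | cons x w ih => rw [wv_cons, map_mul, ih, φ2_pc2, List.map_cons, List.prod_cons]

theorem z2_entry : ((ent (wordN zw2) 0 0 : ℕ) : ZMod 3) ≠ 1 := by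
  decide +kernel

/-- **M2**: the central element `z2 = d²` of the presented double cover of `Suz` is not trivial -/
theorem z2_ne_one_mat : z2 ≠ 1 := by
  intro h
  have h1 : φ2 z2 = 1 := by rw [h, map_one]
  have h2 : (φ2 z2).val = toM (wordN zw2) := by
    unfold z2
    rw [φ2_wv, val_prod, toM_wordN]
  rw [h1, Units.val_one] at h2
  have h3 : (1 : Matrix (Fin 12) (Fin 12) (ZMod 3)) 0 0 = toM (wordN zw2) 0 0 := by rw [← h2]
  rw [Matrix.one_apply_eq] at h3
  exact z2_entry h3.symm

end Cfsg.Agent.Lib.H14.SuzM.M2
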