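import Cfsg.Agent.Lib.H14.SuzM.Base
import Cfsg.Agent.Lib.H14.SuzM.Cert.Lists
import Cfsg.Agent.Lib.H17.SuzOrd.Order

set_option autoImplicit false
set_option maxRecDepth 100000

/-!
# S2048: the words of the certificate are trivial in `Suz` (helper14)

By helper17's word problem for `Suz` (`H17.SuzOrd.e_eq_one`: a word fixing the five base points of the
action on 22880 points is trivial).
-/

namespace Cfsg.Agent.Lib.H14.SuzM

open Cfsg.Agent.Lib.H17.CosetCert

/-- a word fixes the five base points -/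
noncomputable def chkW (w : List ℕ) : Bool :=
  Cfsg.Agent.Lib.H17.SuzU43b.sbase.all fun c =>
    Nat.beq (applyT 15 32768 (Cfsg.Agent.Lib.H17.SuzOrd.tw w) c) c

theorem wv_sg_eq_e (w : List ℕ) : wv sg w = Cfsg.Agent.Lib.H17.SuzOrd.e w := rfl

theorem wv_eq_one_of_chk (w : List ℕ) (h : chkW w = true) : wv sg w = 1 := by
  rw [wv_sg_eq_e]
  apply Cfsg.Agent.Lib.H17.SuzOrd.e_eq_one
  intro c hc
  have := List.all_eq_true.mp h c hc
  exact Nat.eq_of_beq_eq_true this

theorem chk_all : (Cert.exactL ++ (Cert.symL ++ Cert.cenL)).all chkW = true := by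
  decide +kernel

/-- **W**: the words of the certificate are trivial in `Suz` -/
theorem words_trivial : ∀ w ∈ Cert.exactL ++ (Cert.symL ++ Cert.cenL), wv sg w = 1 := by
  intro w hw
  exact wv_eq_one_of_chk w (List.all_eq_true.mp chk_all w hw)

/-- **HEX**: the shape of the exact words -/
theorem exact_shape : ∀ w ∈ Cert.exactL, (∀ x ∈ w, x < 6) ∨ w = [1, 6, 1, 6, 1, 6] := by
  decide +kernel

end Cfsg.Agent.Lib.H14.SuzM
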