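import Cfsg.Agent.Lib.H14.SuzM.Glue7
import Cfsg.Agent.Lib.H14.SuzM.Words
import Cfsg.Agent.Lib.H5.SuzMET
import Cfsg.Agent.Lib.H8.SuzMUC
import Cfsg.Agent.Lib.H17.G2Main
import Cfsg.Agent.Lib.H21.G24GS
import Cfsg.Agent.Lib.H16.G24M.Main
import Cfsg.Agent.Lib.H18.SchurTransport
import Cfsg.Agent.S1055

set_option autoImplicit false
set_option maxRecDepth 100000

/-!
# S2048: the kernel of every finite stem extension of `Suz` has order dividing 6 (helper14)

Assembly of: helper5's extension lemma (ET), helper8's core (UC), the certificate (`mono_main`,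
`words_trivial`, `exact_shape`), helper16's `M(G₂(4)) = C₂` on helper17's `P2`, helper17's
`K ≃* P2`, `K ≃* G₂(4)` and the simplicity of `G₂(4)`.
-/

namespace Cfsg.Agent.Lib.H14.SuzM

open Cfsg.Agent.Lib.H17.SuzGlue (gen idx rels)
open scoped commutatorElement

theorem sg_mem_KS (i : ℕ) (hi : i < 6) : sg i ∈ KS := by
  unfold KS HK
  apply Subgroup.subset_closure
  interval_cases i <;> simp

/-- `KS` is helper17's subgroup `K` -/
theorem KS_eq : KS = Cfsg.Agent.Lib.H17.G2H.K := by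
  apply le_antisymm
  · unfold KS HK
    rw [Subgroup.closure_le]
    intro x hx
    simp only [Set.mem_insert_iff, Set.mem_singleton_iff] at hx
    rcases hx with rfl | rfl | rfl | rfl | rfl | rfl
    · exact Cfsg.Agent.Lib.H17.G2H.of_mem_K 0 (by norm_num)
    · exact Cfsg.Agent.Lib.H17.G2H.of_mem_K 1 (by norm_num)
    · exact Cfsg.Agent.Lib.H17.G2H.of_mem_K 2 (by norm_num)
    · exact Cfsg.Agent.Lib.H17.G2H.of_mem_K 3 (by norm_num)
    · exact Cfsg.Agent.Lib.H17.G2H.of_mem_K 4 (by norm_num)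
    · exact Cfsg.Agent.Lib.H17.G2H.of_mem_K 5 (by norm_num)
  · intro x hx
    have h1 : (⟨x, hx⟩ : ↥Cfsg.Agent.Lib.H17.G2H.K) ∈
        Subgroup.closure (Set.range Cfsg.Agent.Lib.H17.G2H.kg) := by
      rw [Cfsg.Agent.Lib.H17.G2H.closure_kg]
      exact Subgroup.mem_top _
    have h2 : ∀ y ∈ Subgroup.closure (Set.range Cfsg.Agent.Lib.H17.G2H.kg),
        ((y : ↥Cfsg.Agent.Lib.H17.G2H.K) : G) ∈ KS := by
      intro y hy
      induction hy using Subgroup.closure_induction with
      | mem y hy =>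
        obtain ⟨k, rfl⟩ := hy
        rw [Cfsg.Agent.Lib.H17.G2H.kg_val]
        exact sg_mem_KS k.val k.2
      | one => exact Subgroup.one_mem _
      | mul a b _ _ ha hb => exact Subgroup.mul_mem _ ha hb
      | inv a _ ha => exact Subgroup.inv_mem _ ha
    exact h2 _ h1

theorem KS_index : (KS : Subgroup G).index = 1782 := by
  rw [KS_eq]
  exact Cfsg.Agent.Lib.H17.SuzG24.index_eq

theorem finite_G : Finite G := Cfsg.Agent.Lib.H17.SuzOrd.finite_G

/-- a simple group that is not commutative is perfect -/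
theorem commutator_eq_top_of_simple {H : Type*} [Group H] [IsSimpleGroup H]
    (h : ¬ IsMulCommutative H) : commutator H = ⊤ := by
  rcases IsSimpleGroup.eq_bot_or_eq_top_of_normal (commutator H) inferInstance with h1 | h1
  · exfalso
    apply h
    refine ⟨⟨fun a b => ?_⟩⟩
    have : ⁅a, b⁆ ∈ commutator H := Subgroup.commutator_mem_commutator (Subgroup.mem_top a)
      (Subgroup.mem_top b)
    rw [h1, Subgroup.mem_bot] at this
    exact commutatorElement_eq_one_iff_mul_comm.mp this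
  · exact h1

theorem commutator_eq_top_of_mulEquiv {A B : Type*} [Group A] [Group B] (e : A ≃* B)
    (h : commutator A = ⊤) : commutator B = ⊤ := by
  have h1 := Subgroup.map_commutator (⊤ : Subgroup A) ⊤ e.toMonoidHom
  rw [← commutator_def, h, Subgroup.map_top_of_surjective _ e.surjective, ← commutator_def] at h1
  exact h1.symm

/-- `G₂(4)` is perfect -/
theorem KS_perfect : ⁅KS, KS⁆ = KS := by
  obtain ⟨e⟩ := Cfsg.Agent.Lib.H17.G2Main.main
  have hF : ∃ a : Cfsg.Agent.Lib.H17.F4, a ≠ 0 ∧ a ≠ 1 :=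
    ⟨Cfsg.Agent.Lib.H17.F4.w, by decide, by decide⟩
  obtain ⟨hs, hn⟩ := Cfsg.Agent.S1055.result hF
  have h1 : commutator ↥(Cfsg.Lie.chevG2.group Cfsg.Agent.Lib.H17.F4) = ⊤ :=
    commutator_eq_top_of_simple hn
  have h2 : commutator ↥Cfsg.Agent.Lib.H17.G2H.K = ⊤ :=
    commutator_eq_top_of_mulEquiv e.symm h1
  rw [KS_eq]
  have h3 := Subgroup.map_subtype_commutator Cfsg.Agent.Lib.H17.G2H.K
  rw [h2, ← MonoidHom.range_eq_map, Subgroup.range_subtype] at h3
  exact h3.symm

/-- every finite stem extension of `G₂(4) = KS` has kernel of order dividing 2 -/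
theorem KS_stem_dvd (L : Type) [Group L] [Finite L] (τ : L →* ↥KS)
    (hτ : Cfsg.IsStemExtension τ) : Nat.card τ.ker ∣ 2 := by
  have e : ↥Cfsg.Agent.Lib.H17.G2Chain.P2 ≃* ↥KS :=
    Cfsg.Agent.Lib.H17.G2H.isoK.symm.trans (MulEquiv.subgroupCongr KS_eq.symm)
  have h := Cfsg.Agent.Lib.H18.SchurTransport.hasSchurMultiplier_of_group_mulEquiv e
    Cfsg.Agent.Lib.H21.G24GS.base_P2.main
  obtain ⟨π, hπ⟩ := h.2 L τ hτ
  have h1 := Subgroup.card_dvd_of_surjective π hπ
  have h2 : Nat.card (Multiplicative (ZMod 2)) = 2 := Nat.card_zmod 2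
  rwa [h2] at h1

/-- **UPPER**: every finite stem extension of `Suz` has kernel of order dividing 6 -/
theorem card_ker_dvd_six (Γ : Type) [Group Γ] [Finite Γ] (σ : Γ →* G)
    (hσ : Cfsg.IsStemExtension σ) : Nat.card σ.ker ∣ 6 := by
  have h := Cfsg.Agent.Lib.H5.SuzM.card_ker_dvd_of_lift (G := G) KS 2 3 KS_perfect
    (fun L _ _ τ hτ => KS_stem_dvd L τ hτ)
    (fun E _ _ τ hτ K' hK hKK =>
      Cfsg.Agent.Lib.H8.SuzM.core_of_cert Cert.exactL (Cert.symL ++ Cert.cenL) exact_shape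
        words_trivial (fun E _ g A S => mono_main S) finite_G KS_index E τ hτ K' hK hKK)
    Γ σ hσ
  simpa using h

end Cfsg.Agent.Lib.H14.SuzM
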